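import Cfsg.Agent.Lib.Invol.CyclicInter.Defs
import Cfsg.Agent.Lib.PGroup.TransInvol.Final

/-!
# The derived group of a nonabelian two-group with a transitive element
-/

set_option autoImplicit false
set_option linter.unusedSectionVars false
set_option linter.style.haveILetI false

namespace CfsgLib.Gold.RankOne

open Subgroup CfsgLib.CycInter

universe u

variable {G : Type u} [Group G] [Finite G] {T : Subgroup G} {τ : G}

/-- It consists of the elements of order at most two. -/
theorem derived_of_tdata (hτ : TData T τ) (hT : IsPGroup 2 T) (hna : ¬ IsMulCommutative T) (x : G) :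
    x ∈ ⁅T, T⁆ ↔ x ∈ T ∧ x * x = 1 := by
  let φ : MulAut ↥T := MulEquiv.ofBijective
    (MonoidHom.mk' (fun t : ↥T => (⟨τ * t * τ⁻¹, (hτ.normal t).1 t.2⟩ : ↥T))
      fun a b => Subtype.ext (show τ * (a * b : G) * τ⁻¹ = τ * a * τ⁻¹ * (τ * b * τ⁻¹) by group))
    (Finite.injective_iff_bijective.1 fun a b e =>
      Subtype.ext (mul_left_cancel (mul_right_cancel (congrArg Subtype.val e))))
  have hφ : ∀ (k : ℕ) (t : ↥T), ((φ ^ k) t : G) = τ ^ k * t * (τ ^ k)⁻¹ := by
    intro k
    induction k with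
    | zero => intro t; simp
    | succ k ih =>
      intro t
      rw [pow_succ', MulAut.mul_apply,
        show ((φ ((φ ^ k) t) : ↥T) : G) = τ * ((φ ^ k) t : ↥T) * τ⁻¹ from rfl, ih, pow_succ']
      group
  obtain ⟨a, ha, b, hb, haa, hbb, ha1, hb1, hab⟩ := hτ.two
  haveI : Group.IsSolvable ↥(Subgroup.zpowers φ) :=
    Group.isSolvable_of_comm fun a b => mul_comm' a b
  obtain ⟨e1, e2, e3⟩ := CfsgLib.TransInvol.special_of_transitive hT hna
    ⟨⟨a, ha⟩, ⟨b, hb⟩, fun e => hab (congrArg Subtype.val e), fun e => ha1 (congrArg Subtype.val e),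
      Subtype.ext (by rw [SubmonoidClass.coe_pow, pow_two]; exact haa), fun e => hb1 (congrArg Subtype.val e),
      Subtype.ext (by rw [SubmonoidClass.coe_pow, pow_two]; exact hbb)⟩
    (Subgroup.zpowers φ) fun v w hv hvv hw hww => by
      rw [pow_two] at hvv hww
      obtain ⟨k, hk⟩ := hτ.trans v v.2 w w.2 (congrArg Subtype.val hvv) (congrArg Subtype.val hww)
        (fun e => hv (Subtype.ext e)) (fun e => hw (Subtype.ext e))
      exact ⟨φ ^ k, pow_mem (mem_zpowers φ) k, Subtype.ext ((hφ k v).trans hk)⟩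
  have e : ⁅T, T⁆ = (commutator ↥T).map T.subtype := (Subgroup.map_subtype_commutator T).symm
  rw [e]
  constructor
  · rintro ⟨y, hy, rfl⟩
    refine ⟨y.2, ?_⟩
    rw [e1, e2] at hy
    have := (e3 y).1 hy
    rw [pow_two] at this
    exact congrArg Subtype.val this
  · rintro ⟨hx, hxx⟩
    refine ⟨⟨x, hx⟩, ?_, rfl⟩
    rw [e1, e2]
    exact (e3 _).2 (Subtype.ext (by rw [SubmonoidClass.coe_pow, pow_two]; exact hxx))

end CfsgLib.Gold.RankOne
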