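import Cfsg.Agent.Lib.Goldschmidt.RankOne.Aut

/-!
# An automorphism fixing the involutions and trivial modulo them is inner
-/

set_option autoImplicit false
set_option linter.unusedSectionVars false
set_option linter.style.haveILetI false

namespace CfsgLib.Gold.RankOne

open Subgroup CfsgLib.SECrit CfsgLib.Invol CfsgLib.CycInter

universe u

variable {G : Type u} [Group G] [Finite G] {H T : Subgroup G}

/-- An automorphism fixing a point outside, the involutions of `T`, and trivial modulo them, is trivial. -/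
theorem eq_one_of_mod (h : Shape.Data H T) {τ : G} (hτ : TData T τ) (β : MulAut G)
    (hfix : ∀ x ∈ T, x * x = 1 → β x = x)
    (hquo : ∀ t ∈ T, β t * t⁻¹ ∈ T ∧ β t * t⁻¹ * (β t * t⁻¹) = 1)
    {c : G} (hc : c ∉ H) (hcfix : c⁻¹ * β c ∈ H) : β = 1 := by
  have hbT : ∀ t ∈ T, β t ∈ T := fun t ht => by
    have := mul_mem (hquo t ht).1 ht
    rwa [inv_mul_cancel_right] at this
  have hH := aut_mem_iff h β hbT
  -- the two-point stabiliser is centralized
  have hD : ∀ d ∈ H, c⁻¹ * d * c ∈ H → β d = d := by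
    intro d hd hdc
    set δ := d⁻¹ * β d with hδ
    have hbd : β d ∈ H := (hH d).1 hd
    have hbdc : c⁻¹ * β d * c ∈ H := by
      rw [show c⁻¹ * β d * c = (c⁻¹ * β c) * β (c⁻¹ * d * c) * (c⁻¹ * β c)⁻¹ by
        rw [map_mul, map_mul, map_inv]; group]
      exact mul_mem (mul_mem hcfix ((hH _).1 hdc)) (inv_mem hcfix)
    have hδH : δ ∈ H := mul_mem (inv_mem hd) hbd
    have hδc : c⁻¹ * δ * c ∈ H := by
      rw [hδ, show c⁻¹ * (d⁻¹ * β d) * c = (c⁻¹ * d * c)⁻¹ * (c⁻¹ * β d * c) by group]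
      exact mul_mem (inv_mem hdc) hbdc
    have hodd : Odd (orderOf δ) := by
      refine (h.se.2.2 c hc).of_dvd_nat ?_
      have hm : δ ∈ H ⊓ H.map (MulAut.conj c).toMonoidHom :=
        Subgroup.mem_inf.2 ⟨hδH, by rw [Subgroup.mem_map_equiv, MulAut.conj_symm_apply]; exact hδc⟩
      rw [← Subgroup.orderOf_mk δ hm]
      exact orderOf_dvd_natCard _
    have hnT : ∀ {g : G}, g ∈ H → ∀ {t : G}, t ∈ T → g * t * g⁻¹ ∈ T := fun hg _ ht =>
      (mem_normalizer_iff.1 (h.norm hg) _).1 ht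
    have hsq : ∀ (g : G) {z : G}, z * z = 1 → g * z * g⁻¹ * (g * z * g⁻¹) = 1 := fun g z hz => by
      rw [show g * z * g⁻¹ * (g * z * g⁻¹) = g * (z * z) * g⁻¹ by group, hz]; group
    -- the involutions
    have hinv : ∀ z ∈ T, z * z = 1 → δ * z * δ⁻¹ = z := fun z hz hzz => by
      have e := hfix _ (hnT hd hz) (hsq d hzz)
      rw [map_mul, map_mul, map_inv, hfix z hz hzz] at e
      rw [hδ, show d⁻¹ * β d * z * (d⁻¹ * β d)⁻¹ = d⁻¹ * (β d * z * (β d)⁻¹) * d by group, e]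
      group
    refine (inv_mul_eq_one.1 (mem_eq_one h hδH hodd fun t ht => ?_)).symm
    -- modulo involutions
    obtain ⟨hw, hww⟩ := hquo t ht
    obtain ⟨hw', hww'⟩ := hquo _ (hnT hd ht)
    set w := β t * t⁻¹ with hwdef
    set w' := β (d * t * d⁻¹) * (d * t * d⁻¹)⁻¹ with hwdef'
    set ζ := w⁻¹ * (d⁻¹ * w' * d) with hζ
    have hw'' : d⁻¹ * w' * d ∈ T ∧ (d⁻¹ * w' * d) * (d⁻¹ * w' * d) = 1 :=
      ⟨by simpa using hnT (inv_mem hd) hw', by simpa using hsq d⁻¹ hww'⟩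
    have hζT : ζ ∈ T := mul_mem (inv_mem hw) hw''.1
    have hζ2 : ζ * ζ = 1 := by
      rw [hζ]
      have hcm : Commute w⁻¹ (d⁻¹ * w' * d) := (show Commute w (d⁻¹ * w' * d) from
        (hτ.central w hw hww _ hw''.1).symm).inv_left
      rw [hcm.symm.mul_mul_mul_comm, ← mul_inv_rev, hww, inv_one, one_mul, hw''.2]
    have e1 : δ * t * δ⁻¹ = ζ * t := by
      have e : β d * β t * (β d)⁻¹ = w' * (d * t * d⁻¹) := by
        rw [hwdef', inv_mul_cancel_right, map_mul, map_mul, map_inv]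
      have e2 : β t = w * t := by rw [hwdef, inv_mul_cancel_right]
      have e3 : δ * t * δ⁻¹ = (δ * w * δ⁻¹)⁻¹ * (δ * (w * t) * δ⁻¹) := by group
      rw [e3, hinv w hw hww, ← e2, hδ,
        show d⁻¹ * β d * β t * (d⁻¹ * β d)⁻¹ = d⁻¹ * (β d * β t * (β d)⁻¹) * d by group, e, hζ]
      group
    have e2 : Commute (δ ^ 2) t := by
      have : δ ^ 2 * t * (δ ^ 2)⁻¹ = t := by
        rw [show δ ^ 2 * t * (δ ^ 2)⁻¹ = δ * (δ * t * δ⁻¹) * δ⁻¹ by rw [pow_two]; group, e1,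
          show δ * (ζ * t) * δ⁻¹ = (δ * ζ * δ⁻¹) * (δ * t * δ⁻¹) by group, hinv ζ hζT hζ2, e1, ← mul_assoc,
          hζ2, one_mul]
      exact mul_inv_eq_iff_eq_mul.1 this
    obtain ⟨k, hk⟩ := hodd
    have hδpow : δ = (δ ^ 2) ^ (k + 1) := by
      rw [← pow_mul, show 2 * (k + 1) = orderOf δ + 1 by omega, pow_succ, pow_orderOf_eq_one, one_mul]
    have e3 : Commute δ t := hδpow ▸ e2.pow_left (k + 1)
    rw [e3.eq, mul_inv_cancel_right]
  -- `β` restricted to `T`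
  let α : ↥T ≃* ↥T := MulEquiv.ofBijective
    (MonoidHom.mk' (fun t : ↥T => (⟨β t, hbT t t.2⟩ : ↥T)) fun a b => Subtype.ext (map_mul β (a : G) b))
    (Finite.injective_iff_bijective.1 fun a b e => Subtype.ext (β.injective (congrArg Subtype.val e)))
  have hα : ∀ t : ↥T, (α t : G) = β t := fun t => rfl
  obtain ⟨y, hy, d, hd, hτd⟩ := CfsgLib.Bender.Full.exists_mul h.le h.reg hc
    (show τ ∈ H from (stab_eq h).le (mem_normalizer_iff.2 hτ.normal))
  obtain ⟨hdH, hdc⟩ := Subgroup.mem_inf.1 hd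
  rw [Subgroup.mem_map_equiv, MulAut.conj_symm_apply] at hdc
  have hid := hτ.rigid α (fun t => Subtype.ext (by
      obtain ⟨hw, hww⟩ := hquo t t.2
      rw [hα, hα]
      have e : β (t : G) = (β t * (t : G)⁻¹) * t := by rw [inv_mul_cancel_right]
      calc β (β (t : G)) = β ((β t * (t : G)⁻¹) * t) := congrArg β e
        _ = β (β t * (t : G)⁻¹) * β t := map_mul β _ _
        _ = (β t * (t : G)⁻¹) * ((β t * (t : G)⁻¹) * t) := by rw [hfix _ hw hww, ← e]
        _ = t := by rw [← mul_assoc, hww, one_mul]))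
    (fun z hz => Subtype.ext (by
      rw [hα]; exact hfix _ z.2 (congrArg Subtype.val hz)))
    (fun x x' hx => by
      rw [hα, hα, hx, hτd]
      obtain ⟨hw, hww⟩ := hquo y hy
      set w := β y * y⁻¹ with hwdef
      have e : β y = w * y := by rw [hwdef, inv_mul_cancel_right]
      have hm : y * (d * β x * d⁻¹) * y⁻¹ ∈ T := mul_mem (mul_mem hy
        ((mem_normalizer_iff.1 (h.norm hdH) _).1 (hbT x x.2))) (inv_mem hy)
      have hcw : (y * (d * β x * d⁻¹) * y⁻¹) * w = w * (y * (d * β x * d⁻¹) * y⁻¹) :=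
        hτ.central w hw hww _ hm
      simp only [map_mul, map_inv, hD d hdH hdc, e, mul_inv_rev]
      calc w * y * d * β (x : G) * (d⁻¹ * (y⁻¹ * w⁻¹)) = w * (y * (d * β (x : G) * d⁻¹) * y⁻¹) * w⁻¹ := by group
        _ = (y * (d * β (x : G) * d⁻¹) * y⁻¹) * w * w⁻¹ := by rw [hcw]
        _ = _ := by group)
  exact eq_one_of_fix h β (fun t ht => (hα ⟨t, ht⟩).symm.trans (congrArg Subtype.val (hid ⟨t, ht⟩))) hc hcfix

/-- An automorphism fixing the involutions of `T` and trivial modulo them is conjugation by an element of `T`. -/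
theorem inner_of_data (h : Shape.Data H T) {τ : G} (hτ : TData T τ) (β : MulAut G)
    (hfix : ∀ x ∈ T, x * x = 1 → β x = x)
    (hquo : ∀ t ∈ T, β t * t⁻¹ ∈ T ∧ β t * t⁻¹ * (β t * t⁻¹) = 1) :
    ∃ x ∈ T, β = MulAut.conj x := by
  obtain ⟨c, hc⟩ := h.exists_notMem
  have hbT : ∀ t ∈ T, β t ∈ T := fun t ht => by
    have := mul_mem (hquo t ht).1 ht
    rwa [inv_mul_cancel_right] at this
  have hbc : β c ∉ H := fun e => hc ((aut_mem_iff h β hbT c).2 e)
  obtain ⟨x, ⟨hx, hxH⟩, -⟩ := h.reg c (β c) hc hbc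
  refine ⟨x, hx, ?_⟩
  have happ : ∀ g : G, ((MulAut.conj x)⁻¹ * β) g = x⁻¹ * β g * x := fun g => by
    rw [MulAut.mul_apply, MulAut.inv_def, MulAut.conj_symm_apply]
  refine (inv_mul_eq_one.1 (eq_one_of_mod h hτ _ (fun z hz hzz => ?_) (fun t ht => ?_) hc ?_)).symm
  · rw [happ, hfix z hz hzz, mul_assoc, ← hτ.central z hz hzz x hx, inv_mul_cancel_left]
  · obtain ⟨hw, hww⟩ := hquo t ht
    rw [happ]
    set w := β t * t⁻¹ with hwdef
    have e : β t = w * t := by rw [hwdef, inv_mul_cancel_right]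
    have e' : x⁻¹ * β t * x * t⁻¹ = w * (x⁻¹ * t * x * t⁻¹) := by
      rw [e, ← mul_assoc, hτ.central w hw hww x⁻¹ (inv_mem hx)]; group
    have hcm : x⁻¹ * t * x * t⁻¹ ∈ T := mul_mem (mul_mem (mul_mem (inv_mem hx) ht) hx) (inv_mem ht)
    rw [e']
    refine ⟨mul_mem hw hcm, ?_⟩
    rw [Commute.mul_mul_mul_comm (show Commute (x⁻¹ * t * x * t⁻¹) w from hτ.central w hw hww _ hcm), hww,
      h.comm_sq hx ht, one_mul]
  · rw [happ]
    have h1 := inv_mem hxH
    have h2 := h.le hx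
    rw [show c⁻¹ * (x⁻¹ * β c * x) = ((β c)⁻¹ * (x * c))⁻¹ * x by group]
    exact mul_mem h1 h2

end CfsgLib.Gold.RankOne
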