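import Cfsg.Agent.Lib.Goldschmidt.Defs
import Cfsg.Agent.Lib.Walter.Rank.Factor
import Cfsg.Agent.Lib.Invol.CyclicInter.Suzuki
import Cfsg.Agent.Lib.Invol.CyclicInter.Unitary
import Cfsg.Agent.Lib.Invol.CyclicInter.Abelian
import Cfsg.Agent.Lib.Lie.Suz.Twisted

/-!
# The groups of the list: the involutions of a Sylow `2`-subgroup

They are central in it and permuted transitively by the powers of one element of its normalizer.
-/

set_option autoImplicit false
set_option linter.unusedSectionVars false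
set_option linter.style.haveILetI false

namespace CfsgLib.Gold.RankOne

open Subgroup CfsgLib.CycInter

universe u

variable {X : Type u} [Group X] [Finite X]

/-- The rank one families have a distinguished element in a Sylow normalizer. -/
theorem hasTData_iso (h : IsoFamilies X) : HasTData X := by
  rcases h with ⟨F, iF, iF', ⟨n, hn, hc⟩, ⟨f⟩⟩ | ⟨F, iF, iF', m, hm, hc, ⟨f⟩⟩ | ⟨F, iF, iF', n, hn, hc, ⟨f⟩⟩
  · exact (hasTData_psl_two hc hn).congr f.symm
  · obtain ⟨t⟩ := CfsgLib.Lie.Suz.exists_twEquiv hm hc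
    exact (hasTData_sz hm hc).congr (t.trans f.symm)
  · exact (hasTData_psu hn hc).congr f.symm

/-- So have all groups of the list. -/
theorem hasTData_form (hs : IsSimpleGroup X) (h : Form X) : HasTData X := by
  rcases h with hc | hi
  · intro T
    obtain ⟨h4, hsq⟩ := CfsgLib.Walter.Rank.sylow_elementary hs hc T
    have hE := CfsgLib.Walter.Rank.sylow_isElementary hs hc T
    have hab : CfsgLib.Walter.AbTwo X := fun S a b => by
      haveI := (CfsgLib.Walter.Rank.sylow_isElementary hs hc S).1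
      exact mul_comm' a b
    obtain ⟨k, hk, htr⟩ := CfsgLib.Walter.Rank.exists_torus hs hc hab T
    refine ⟨k, TData.of_elementary (fun s => mem_normalizer_iff.1 hk s) hsq ?_
      fun a ha b hb ha1 hb1 => htr a ha ha1 b hb hb1⟩
    classical
    letI := Fintype.ofFinite (T : Subgroup X)
    obtain ⟨a, b, c, hab', hac, hbc⟩ := Fintype.two_lt_card_iff.1 (show 2 < Fintype.card (T : Subgroup X) by
      rw [← Nat.card_eq_fintype_card]; omega)
    by_cases ha : (a : X) = 1
    · exact ⟨b, b.2, c, c.2, fun e => hab' (Subtype.ext (ha.trans e.symm)), fun e => hac (Subtype.ext (ha.trans e.symm)),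
        fun e => hbc (Subtype.ext e)⟩
    by_cases hb : (b : X) = 1
    · exact ⟨a, a.2, c, c.2, ha, fun e => hbc (Subtype.ext (hb.trans e.symm)), fun e => hac (Subtype.ext e)⟩
    exact ⟨a, a.2, b, b.2, ha, hb, fun e => hab' (Subtype.ext e)⟩
  · exact hasTData_iso hi

/-- The involutions of `T` are central in it, at least three, and conjugate by powers of one element
normalising `T`. -/
theorem omega_facts (hs : IsSimpleGroup X) (h : Form X) (T : Sylow 2 X) :
    (∀ x ∈ (T : Subgroup X), x * x = 1 → ∀ t ∈ (T : Subgroup X), Commute x t) ∧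
      4 ≤ Nat.card {x : X // x ∈ (T : Subgroup X) ∧ x * x = 1} ∧
      ∃ k ∈ normalizer ((T : Subgroup X) : Set X), ∀ v ∈ (T : Subgroup X), v * v = 1 → v ≠ 1 →
        ∀ w ∈ (T : Subgroup X), w * w = 1 → w ≠ 1 → ∃ i : ℕ, k ^ i * v * (k ^ i)⁻¹ = w := by
  obtain ⟨τ, hτ⟩ := hasTData_form hs h T
  have hcomm : ∀ x ∈ (T : Subgroup X), x * x = 1 → ∀ t ∈ (T : Subgroup X), Commute x t :=
    fun x hx hxx t ht => (hτ.central x hx hxx t ht).symm
  refine ⟨hcomm, ?_, τ, mem_normalizer_iff.2 hτ.normal,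
    fun v hv hvv hv1 w hw hww hw1 => hτ.trans v hv w hw hvv hww hv1 hw1⟩
  obtain ⟨a, ha, b, hb, haa, hbb, ha1, hb1, hab⟩ := hτ.two
  have hcd : (a * b) * (a * b) = 1 := by
    rw [(hcomm a ha haa b hb).symm.mul_mul_mul_comm, haa, hbb, one_mul]
  let f : Fin 4 → {x : X // x ∈ (T : Subgroup X) ∧ x * x = 1} :=
    ![⟨1, one_mem _, one_mul 1⟩, ⟨a, ha, haa⟩, ⟨b, hb, hbb⟩, ⟨a * b, mul_mem ha hb, hcd⟩]
  have hf : Function.Injective f := by
    have hab1 : a * b ≠ 1 := fun e => hab (mul_left_cancel (a := a) (haa.trans e.symm))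
    have haba : a * b ≠ a := fun e => hb1 (mul_eq_left.1 e)
    have habb : a * b ≠ b := fun e => ha1 (mul_eq_right.1 e)
    intro i j e
    have e' := congrArg Subtype.val e
    fin_cases i <;> fin_cases j <;>
      first
        | rfl
        | exact absurd e' ha1 | exact absurd e'.symm ha1 | exact absurd e' hb1 | exact absurd e'.symm hb1
        | exact absurd e' hab | exact absurd e'.symm hab | exact absurd e' hab1 | exact absurd e'.symm hab1
        | exact absurd e' haba | exact absurd e'.symm haba | exact absurd e' habb | exact absurd e'.symm habb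
  calc 4 = Nat.card (Fin 4) := by rw [Nat.card_eq_fintype_card, Fintype.card_fin]
    _ ≤ _ := Nat.card_le_card_of_injective f hf

/-- A nontrivial strongly closed subgroup of exponent two consists of all involutions of `T`. -/
theorem eq_omega (hs : IsSimpleGroup X) (h : Form X) (T : Sylow 2 X) {B : Subgroup X} (hne : B ≠ ⊥)
    (hsq : ∀ b ∈ B, b * b = 1) (hcl : Cfsg.IsStronglyClosed B (T : Subgroup X)) (x : X) :
    x ∈ B ↔ x ∈ (T : Subgroup X) ∧ x * x = 1 := by
  refine ⟨fun hx => ⟨hcl.1 hx, hsq x hx⟩, fun ⟨hx, hxx⟩ => ?_⟩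
  by_cases hx1 : x = 1
  · rw [hx1]; exact one_mem B
  obtain ⟨⟨b, hb⟩, hb1⟩ : ∃ b : B, b ≠ 1 := by
    by_contra hh
    push Not at hh
    exact hne (eq_bot_iff.2 fun b hb => mem_bot.2 (congrArg Subtype.val (hh ⟨b, hb⟩)))
  obtain ⟨-, -, k, -, htr⟩ := omega_facts hs h T
  obtain ⟨i, hi⟩ := htr b (hcl.1 hb) (hsq b hb) (fun e => hb1 (Subtype.ext e)) x hx hxx hx1
  exact hi ▸ hcl.2 b hb (k ^ i) (hi ▸ hx)

end CfsgLib.Gold.RankOne
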