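import Cfsg.Agent.Lib.Goldschmidt.Defs
import Cfsg.Agent.Lib.Bender.Binary.Models
import Cfsg.Agent.Lib.Bender.Full.SuzukiType
import Cfsg.Agent.Lib.Invol.SECriterion.Shape.Rank

/-!
# The rank one families: a Sylow `2`-subgroup is regular on the other points
-/

set_option autoImplicit false
set_option linter.unusedSectionVars false
set_option linter.style.haveILetI false

namespace CfsgLib.Gold.RankOne

open Subgroup CfsgLib.SECrit

universe u

variable {G : Type u} [Group G] [Finite G]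

/-- The situation of Bender's theorem, transported by conjugation. -/
theorem Shape.Data.conj {H Q : Subgroup G} (h : Shape.Data H Q) (g : G) :
    Shape.Data (H.map (MulAut.conj g).toMonoidHom) (Q.map (MulAut.conj g).toMonoidHom) := by
  have hm : ∀ (A : Subgroup G) (x : G), x ∈ A.map (MulAut.conj g).toMonoidHom ↔ g⁻¹ * x * g ∈ A := fun A x => by
    rw [Subgroup.mem_map_equiv, MulAut.conj_symm_apply]
  have hinj : Function.Injective (MulAut.conj g).toMonoidHom := (MulAut.conj g).injective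
  have hcard : ∀ A : Subgroup G, Nat.card (A.map (MulAut.conj g).toMonoidHom) = Nat.card A :=
    fun A => Subgroup.card_map_of_injective hinj
  refine ⟨⟨fun e => h.se.1 (eq_top_iff.2 fun x _ => ?_), ?_, fun k hk => ?_⟩, ?_, h.pair,
    Subgroup.map_mono h.le, ?_, h.two.map _, ?_⟩
  · have : g * x * g⁻¹ ∈ H.map (MulAut.conj g).toMonoidHom := e ▸ Subgroup.mem_top _
    rw [hm] at this
    simpa [mul_assoc] using this
  · rw [hcard]; exact h.se.2.1
  · have hk' : g⁻¹ * k * g ∉ H := fun e => hk ((hm _ _).2 e)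
    rw [CfsgLib.Bender.Full.map_conj_map, show k * g = g * (g⁻¹ * k * g) by group,
      ← CfsgLib.Bender.Full.map_conj_map, ← Subgroup.map_inf _ _ _ hinj, hcard]
    exact h.se.2.2 _ hk'
  · refine eq_bot_iff.2 fun x hx => ?_
    have hle : (H.map (MulAut.conj g).toMonoidHom).normalCore ≤ H := fun y hy => by
      have h1 := (normalCore_normal _).conj_mem y hy g
      have h2 := (hm _ _).1 (normalCore_le _ h1)
      simpa [mul_assoc] using h2
    have := normal_le_normalCore.2 hle hx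
    rwa [h.core] at this
  · exact (Subgroup.map_mono h.norm).trans (Subgroup.le_normalizer_map _)
  · intro a b ha hb
    obtain ⟨x, ⟨hx, hxH⟩, hu⟩ := h.reg (g⁻¹ * a * g) (g⁻¹ * b * g) (fun e => ha ((hm _ _).2 e))
      (fun e => hb ((hm _ _).2 e))
    refine ⟨g * x * g⁻¹, ⟨(hm _ _).2 (by simpa [mul_assoc] using hx), (hm _ _).2 ?_⟩, fun y hy => ?_⟩
    · simpa [mul_assoc] using hxH
    · have h1 := hu (g⁻¹ * y * g) ⟨(hm _ _).1 hy.1, by simpa [mul_assoc] using (hm _ _).1 hy.2⟩
      rw [← h1]; group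

/-- A strongly embedded subgroup. -/
theorem exists_se (h : IsoFamilies G) : ∃ M : Subgroup G, Cfsg.IsStronglyEmbedded M := by
  rcases h with ⟨F, iF, iF', ⟨n, hn, hc⟩, ⟨f⟩⟩ | ⟨F, iF, iF', m, hm, hc, ⟨f⟩⟩ | ⟨F, iF, iF', n, hn, hc, ⟨f⟩⟩
  · haveI := (CfsgLib.PushUp.charP_of_card (p := 2) hc).1
    let e : Matrix.SpecialLinearGroup (Fin 2) F ≃* Matrix.ProjectiveSpecialLinearGroup (Fin 2) F :=
      MulEquiv.ofBijective _ CfsgLib.PushUpTwo.toPSL_bijective
    exact CfsgLib.Bender.Binary.se_map (f.trans e.symm) CfsgLib.Bender.Binary.se_sl_two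
  · haveI : CharP F 2 := charP_of_card_eq_prime_pow (f := 2 * m + 1) hc
    obtain ⟨t⟩ := CfsgLib.Lie.Suz.exists_twEquiv (F := F) hm hc
    exact CfsgLib.Bender.Binary.se_map (f.trans t.symm) (CfsgLib.Bender.Binary.se_sz hm hc)
  · exact CfsgLib.Bender.Binary.se_map f (CfsgLib.Bender.Binary.se_psu hn hc)

/-- Every Sylow `2`-subgroup fixes a point and is regular on the others. -/
theorem exists_data_at (hs : IsSimpleGroup G) (h : IsoFamilies G) (T : Sylow 2 G) :
    ∃ H : Subgroup G, Shape.Data H (T : Subgroup G) := by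
  haveI := hs
  haveI : Fact (Nat.Prime 2) := ⟨Nat.prime_two⟩
  obtain ⟨H, hH⟩ := exists_se h
  have hcore : H.normalCore = ⊥ :=
    (inferInstance : H.normalCore.Normal).eq_bot_or_eq_top.resolve_right fun e =>
      hH.1 (eq_top_iff.2 (e ▸ H.normalCore_le))
  obtain ⟨Q, hle, hn, htwo, hreg⟩ := CfsgLib.Bender.Full.fullStatement G H hH hcore
    (CfsgLib.Bender.Full.hasPair_of_simple hH)
  have hD : Shape.Data H Q := ⟨hH, hcore, CfsgLib.Bender.Full.hasPair_of_simple hH, hle, hn, htwo, hreg⟩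
  obtain ⟨S, hS⟩ := hD.exists_sylow
  obtain ⟨g, hg⟩ := MulAction.exists_smul_eq G S T
  refine ⟨H.map (MulAut.conj g).toMonoidHom, ?_⟩
  have e : (T : Subgroup G) = Q.map (MulAut.conj g).toMonoidHom := by
    rw [← hg, Sylow.coe_subgroup_smul, hS]
    rfl
  exact e ▸ Shape.Data.conj hD g

end CfsgLib.Gold.RankOne
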