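import Cfsg.Agent.Lib.Lie.Suz.Sub.Norm
import Cfsg.Agent.Lib.Lie.Suz.Char.Borel

/-!
# Commutators in a Sylow `2`-subgroup of a Suzuki group

The commutators with a fixed element form a hyperplane of the involutions; two noncommuting elements give
distinct hyperplanes.
-/

set_option autoImplicit false
set_option linter.unusedSectionVars false
set_option linter.style.haveILetI false

namespace CfsgLib.Gold.RankOne

open CfsgLib.Lie.Suz
open scoped commutatorElement

variable {F : Type*} [Field F] [Fintype F] {m : ℕ} (hm : 1 ≤ m) (hF : Fintype.card F = 2 ^ (2 * m + 1))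

/-- The commutator form. -/
noncomputable def szPsi (a : F) : F →+ F :=
  AddMonoidHom.mk' (fun c => th m a * c + th m c * a)
    fun c d => by rw [th_add (isSuzField hF)]; ring

theorem szPsi_apply (a c : F) : szPsi hF a c = th m a * c + th m c * a := rfl

theorem szPsi_scale (a u : F) : szPsi hF a (a * u) = th m a * a * szPsi hF 1 u := by
  rw [szPsi_apply, szPsi_apply, th_mul (isSuzField hF), th_one (isSuzField hF)]; ring

theorem card_szPsi_range {a : F} (ha : a ≠ 0) :
    2 * Nat.card (szPsi hF a).range = Nat.card F := by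
  classical
  have hk : Nat.card (szPsi hF a).ker = 2 := by
    have hiff : ∀ c, c ∈ (szPsi hF a).ker ↔ c = 0 ∨ c = a := by
      intro c
      obtain ⟨u, rfl⟩ : ∃ u, c = a * u := ⟨a⁻¹ * c, by rw [mul_inv_cancel_left₀ ha]⟩
      have hS := isSuzField hF
      have hne : th m a * a ≠ 0 := mul_ne_zero (fun e => ha (th_eq_zero hS e)) ha
      rw [AddMonoidHom.mem_ker, szPsi_scale, mul_eq_zero, or_iff_right hne, szPsi_apply, th_one hS, one_mul,
        mul_one, add_comm, th_add_self_zero hF, mul_eq_zero, or_iff_right ha, mul_eq_left₀ ha]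
    rw [Nat.card_eq_two_iff]
    refine ⟨⟨0, (hiff 0).2 (Or.inl rfl)⟩, ⟨a, (hiff a).2 (Or.inr rfl)⟩, fun e => ha (congrArg Subtype.val e).symm,
      Set.eq_univ_of_forall fun c => ?_⟩
    rcases (hiff c).1 c.2 with e | e
    · exact Or.inl (Subtype.ext e)
    · exact Or.inr (Subtype.ext e)
  rw [← AddSubgroup.index_ker, ← hk]
  exact AddSubgroup.card_mul_index _

/-- Multipliers fixing the hyperplane are trivial. -/
theorem eq_one_of_stable {l : F} (h : ∀ v ∈ (szPsi hF (1 : F)).range, l * v ∈ (szPsi hF (1 : F)).range)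
    (hl : l ≠ 0) : l = 1 := by
  classical
  set s : Finset F := ((Finset.univ.filter (· ∈ (szPsi hF (1 : F)).range)).erase 0) with hs
  have hmem : ∀ v, v ∈ s ↔ v ≠ 0 ∧ v ∈ (szPsi hF (1 : F)).range := fun v => by simp [hs]
  have himg : s.image (l * ·) = s := by
    refine Finset.eq_of_subset_of_card_le (fun v hv => ?_) ?_
    · obtain ⟨w, hw, rfl⟩ := Finset.mem_image.1 hv
      exact (hmem _).2 ⟨mul_ne_zero hl ((hmem w).1 hw).1, h w ((hmem w).1 hw).2⟩
    · rw [Finset.card_image_of_injective _ (mul_right_injective₀ hl)]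
  have hp : l ^ s.card = 1 := by
    have e : ∏ v ∈ s, v = ∏ v ∈ s, l * v := by
      conv_lhs => rw [← himg, Finset.prod_image (fun a _ b _ e => mul_right_injective₀ hl e)]
    rw [Finset.prod_mul_distrib, Finset.prod_const] at e
    exact (mul_eq_right₀ (Finset.prod_ne_zero_iff.2 fun v hv => ((hmem v).1 hv).1)).1 e.symm
  have hc : s.card + 1 = 2 ^ (2 * m) := by
    rw [hs, Finset.card_erase_add_one (Finset.mem_filter.2 ⟨Finset.mem_univ _, zero_mem _⟩), ← Fintype.card_subtype, ← Nat.card_eq_fintype_card]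
    refine Nat.eq_of_mul_eq_mul_left (n := 2) (by norm_num) ?_
    rw [card_szPsi_range hF one_ne_zero, Nat.card_eq_fintype_card, hF]; ring
  have hcard : l ^ (Fintype.card F - 1) = 1 := FiniteField.pow_card_sub_one_eq_one l hl
  rw [hF, show 2 ^ (2 * m + 1) - 1 = s.card + s.card + 1 by rw [pow_succ, ← hc]; omega, pow_succ, pow_add, hp,
    one_mul, one_mul] at hcard
  exact hcard

/-- The hyperplanes of two noncommuting elements span everything. -/
theorem exists_add {a c : F} (hne : szPsi hF a c ≠ 0) (v : F) :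
    ∃ u w, szPsi hF a u + szPsi hF c w = v := by
  classical
  have hS := isSuzField hF
  have ha : a ≠ 0 := fun e => hne (by rw [szPsi_apply, e, th_zero hS]; ring)
  have hc : c ≠ 0 := fun e => hne (by rw [szPsi_apply, e, th_zero hS]; ring)
  by_contra hv
  have hv' : v ∉ (szPsi hF a).range ⊔ (szPsi hF c).range := fun h => hv (by
    obtain ⟨_, ⟨u, rfl⟩, _, ⟨w, rfl⟩, e⟩ := AddSubgroup.mem_sup.1 h
    exact ⟨u, w, e⟩)
  -- so the hyperplanes coincide
  have heq : ∀ {b : F}, b ≠ 0 → (szPsi hF b).range ≤ (szPsi hF a).range ⊔ (szPsi hF c).range →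
      (szPsi hF b).range = (szPsi hF a).range ⊔ (szPsi hF c).range := fun {b} hb hle => by
    set S := (szPsi hF a).range ⊔ (szPsi hF c).range
    refine SetLike.coe_injective (Set.eq_of_subset_of_ncard_le hle ?_ (Set.toFinite _))
    rw [← Nat.card_coe_set_eq, ← Nat.card_coe_set_eq]
    show Nat.card S ≤ Nat.card (szPsi hF b).range
    obtain ⟨k, hk⟩ := AddSubgroup.card_addSubgroup_dvd_card S
    have h2 := card_szPsi_range hF hb
    have hk2 : 2 ≤ k := by
      by_contra hk'
      interval_cases k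
      · simp at hk
      · rw [mul_one] at hk
        exact hv' ((AddSubgroup.eq_top_of_card_eq S hk.symm) ▸ AddSubgroup.mem_top v)
    nlinarith
  have hEq : (szPsi hF a).range = (szPsi hF c).range := (heq ha le_sup_left).trans (heq hc le_sup_right).symm
  have hpa : th m a * a ≠ 0 := mul_ne_zero (fun e => ha (th_eq_zero hS e)) ha
  have hl : th m c * c / (th m a * a) = 1 := by
    refine eq_one_of_stable hF (fun w hw => ?_)
      (div_ne_zero (mul_ne_zero (fun e => hc (th_eq_zero hS e)) hc) hpa)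
    obtain ⟨u, rfl⟩ := hw
    obtain ⟨z, hz⟩ : szPsi hF c (c * u) ∈ (szPsi hF a).range := hEq ▸ ⟨_, rfl⟩
    refine ⟨a⁻¹ * z, ?_⟩
    have e := szPsi_scale hF a (a⁻¹ * z)
    rw [mul_inv_cancel_left₀ ha, hz, szPsi_scale] at e
    rw [div_mul_eq_mul_div, eq_div_iff hpa, mul_comm, ← e]
  rw [div_eq_one_iff_eq hpa] at hl
  have hac : c = a := congrArg Units.val (kth_injective hS (a₁ := Units.mk0 c hc) (a₂ := Units.mk0 a ha) hl)
  exact hne (by rw [hac, szPsi_apply, ← mul_comm, ← two_mul, two_eq_zero hS, zero_mul])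

/-- The commutator of two translations. -/
theorem ts_commutator (a b c d : F) :
    ⁅(TS hF a b : Cfsg.Sz F m), TS hF c d⁆ = TS hF 0 (szPsi hF a c) := by
  rw [commutatorElement_def, mul_inv_eq_iff_eq_mul, mul_inv_eq_iff_eq_mul, mul_assoc, TS_mul', TS_mul',
    TS_mul', szPsi_apply]
  have hS := isSuzField hF
  congr 1
  · ring
  · rw [th_zero hS]
    linear_combination (-(th m c * a)) * two_eq_zero hS

include hm in
/-- Two noncommuting translations have enough commutators. -/
theorem sz_span {x y : Cfsg.Sz F m} (hx : x ∈ U hF) (hy : y ∈ U hF) (hne : ¬ Commute x y)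
    (N : Subgroup (Cfsg.Sz F m)) (hNx : ∀ t ∈ U hF, ⁅x, t⁆ ∈ N) (hNy : ∀ t ∈ U hF, ⁅y, t⁆ ∈ N)
    {v : Cfsg.Sz F m} (hv : v ∈ U hF) (hvv : v * v = 1) : v ∈ N := by
  have hS := isSuzField hF
  have hmem : ∀ s ∈ U hF, ∃ a b, s = TS hF a b := fun s ⟨a, b, h⟩ => ⟨a, b, Subtype.ext h⟩
  obtain ⟨a, b, rfl⟩ := hmem x hx
  obtain ⟨c, d, rfl⟩ := hmem y hy
  obtain ⟨e, f, rfl⟩ := hmem v hv
  rw [TS_sq' hF, ← TS_zero' hF] at hvv
  have he : e = 0 := by
    rcases mul_eq_zero.1 (TS_inj hF hvv).2 with h | h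
    · exact th_eq_zero hS h
    · exact h
  subst he
  obtain ⟨u, w, hf⟩ := exists_add hF (a := a) (c := c) (fun h0 => hne (by
    have h := ts_commutator hF a b c d
    rw [h0, TS_zero', commutatorElement_eq_one_iff_mul_comm] at h
    exact h)) f
  rw [← hf, show (TS hF 0 (szPsi hF a u + szPsi hF c w) : Cfsg.Sz F m) =
      TS hF 0 (szPsi hF a u) * TS hF 0 (szPsi hF c w) by rw [TS_mul', th_zero hS]; simp]
  rw [← ts_commutator hF a b u 0, ← ts_commutator hF c d w 0]
  exact mul_mem (hNx _ (TS_mem_U hF _ _)) (hNy _ (TS_mem_U hF _ _))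

end CfsgLib.Gold.RankOne
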