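import Cfsg.Agent.Lib.SU.UnitalModel

/-!
# Every involution is a commutator with a given element off them: the unitary case
-/

set_option autoImplicit false
set_option linter.unusedSectionVars false
set_option linter.style.haveILetI false

namespace CfsgLib.Gold.RankOne

open CfsgLib.SU CfsgLib.SU.HermAut
open scoped commutatorElement

variable {T F : Type*} [Group T] [Field F] [CharP F 2]

theorem exists_commutator (U : Unital T F) {x v : T} (hx : x * x ≠ 1) (hv : v * v = 1) :
    ∃ t : T, ⁅x, t⁆ = v := by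
  have ha : U.pi x ≠ 0 := fun e => hx (U.mul_self_eq_one_iff.2 e)
  have hπv : U.pi v = 0 := U.mul_self_eq_one_iff.1 hv
  obtain ⟨w, hw⟩ := exists_trace_one U.bar U.bar_bar U.exists_ne
  obtain ⟨t, ht⟩ := U.exists_pi (U.bar (w * U.tau v / U.pi x))
  refine ⟨t, ?_⟩
  have h2 : (2 : F) = 0 := CharTwo.two_eq_zero
  have hpc : U.pi ⁅x, t⁆ = 0 := by
    rw [commutatorElement_def, U.pi_mul, U.pi_mul, U.pi_mul, U.pi_inv, U.pi_inv]
    linear_combination (U.pi x + U.pi t) * h2
  have heq : x * t = ⁅x, t⁆ * (t * x) := by rw [commutatorElement_def]; group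
  have h1 := congrArg U.tau heq
  rw [U.tau_mul, U.tau_mul ⁅x, t⁆, hpc, map_zero, mul_zero, add_zero, U.tau_mul] at h1
  have e1 : U.pi t * U.bar (U.pi x) = U.bar w * U.tau v := by
    rw [ht, ← map_mul, div_mul_cancel₀ _ ha, map_mul, U.tau_fixed hπv]
  have e2 : U.pi x * U.bar (U.pi t) = w * U.tau v := by
    rw [ht, U.bar_bar, mul_div_cancel₀ _ ha]
  refine U.coord_ext _ _ (hpc.trans hπv.symm) ?_
  linear_combination -h1 + e1 + e2 + (U.tau v) * hw - (U.pi x * U.bar (U.pi t)) * h2

end CfsgLib.Gold.RankOne
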