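import Cfsg.Agent.Lib.Goldschmidt.Phi.Facts
import Cfsg.Agent.Lib.Goldschmidt.RankOne.Omega
import Cfsg.Agent.Lib.Goldschmidt.RankOne.Regular
import Cfsg.Agent.Lib.Goldschmidt.RankOne.Inner
import Cfsg.Agent.Lib.Goldschmidt.RankOne.Derived
import Cfsg.Agent.Lib.Goldschmidt.RankOne.SpanUnitary
import Cfsg.Agent.Lib.Goldschmidt.RankOne.SpanSuzuki
import Cfsg.Agent.Lib.Lie.Suz.Aut
import Cfsg.Agent.Lib.Fusion.FrakL.Suzuki

/-!
# The facts used of the rank one groups with nonabelian Sylow `2`-subgroups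
-/

set_option autoImplicit false
set_option linter.unusedSectionVars false
set_option linter.style.haveILetI false

namespace CfsgLib.Gold.RankOne

open Subgroup CfsgLib.SECrit CfsgLib.CycInter
open scoped commutatorElement

universe u

variable {K : Type u} [Group K] [Finite K]

/-- The list is unchanged with abelian Sylow subgroup: inner by the Sylow subgroup. -/
theorem inner_iso (hs : IsSimpleGroup K) (hi : IsoFamilies K) (R : Sylow 2 K) (β : MulAut K)
    (hfix : ∀ x ∈ (R : Subgroup K), x * x = 1 → β x = x)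
    (hquo : ∀ t ∈ (R : Subgroup K), β t * t⁻¹ ∈ (R : Subgroup K) ∧ β t * t⁻¹ * (β t * t⁻¹) = 1) :
    ∃ x ∈ (R : Subgroup K), β = MulAut.conj x := by
  obtain ⟨H, hD⟩ := exists_data_at hs hi R
  obtain ⟨τ, hτ⟩ := hasTData_iso hi R
  exact inner_of_data hD hτ β hfix hquo

/-- Suzuki's groups: a `2`-element of the automorphisms normalising `R` is inner by `R`. -/
theorem inner_sz (hs : IsSimpleGroup K) (hna : ¬ IsMulCommutative K) {F : Type} [Field F] [Fintype F] {m : ℕ}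
    (hm : 1 ≤ m) (hc : Fintype.card F = 2 ^ (2 * m + 1)) (f : K ≃* Cfsg.Lie.Sz F (2 ^ (m + 1)))
    (R : Sylow 2 K) (β : MulAut K) (k : ℕ) (hk : β ^ 2 ^ k = 1)
    (hT : ∀ t ∈ (R : Subgroup K), β t ∈ (R : Subgroup K)) :
    ∃ x ∈ (R : Subgroup K), β = MulAut.conj x := by
  haveI := hs
  obtain ⟨H, hD⟩ := exists_data_at hs (Or.inr (Or.inl ⟨F, inferInstance, inferInstance, m, hm, hc, ⟨f⟩⟩)) R
  set Z := ↥(Cfsg.Lie.Sz F (2 ^ (m + 1)))
  set β' : MulAut Z := MulAut.congr f β with hβ'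
  set q : Cfsg.Out Z := QuotientGroup.mk' (Cfsg.Inn Z) β' with hq
  have hq1 : q = 1 := by
    refine orderOf_eq_one_iff.1 (Nat.eq_one_of_dvd_coprimes (a := 2 * m + 1) (b := 2 ^ k)
      ((show Odd (2 * m + 1) from ⟨m, rfl⟩).coprime_two_right.pow_right k) ?_ (orderOf_dvd_of_pow_eq_one ?_))
    · rw [← CfsgLib.Lie.Suz.card_out hm hc]
      exact orderOf_dvd_natCard _
    · rw [hq, hβ', ← map_pow, ← map_pow, hk, map_one, map_one]
  obtain ⟨g', hg'⟩ : β' ∈ Cfsg.Inn Z := (QuotientGroup.eq_one_iff _).1 hq1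
  have hβ : β = MulAut.conj (f.symm g') := MulEquiv.ext fun y => f.injective (by
    have := DFunLike.congr_fun hg' (f y)
    rw [hβ', MulAut.congr_apply] at this
    simp only [MulEquiv.trans_apply, f.symm_apply_apply] at this
    rw [← this]
    simp)
  set g := f.symm g'
  have hgk : g ^ 2 ^ k = 1 := by
    have hzc : g ^ 2 ^ k ∈ center K := mem_center_iff.2 fun y => by
      have e : MulAut.conj (g ^ 2 ^ k) = 1 := by rw [map_pow, ← hβ, hk]
      have h1 : g ^ 2 ^ k * y * (g ^ 2 ^ k)⁻¹ = y := DFunLike.congr_fun e y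
      exact (mul_inv_eq_iff_eq_mul.1 h1).symm
    rcases (inferInstance : (center K).Normal).eq_bot_or_eq_top with e | e
    · rwa [e, mem_bot] at hzc
    · exact absurd ⟨⟨fun a b => (mem_center_iff.1 (e ▸ Subgroup.mem_top b : b ∈ center K) a)⟩⟩ hna
  have hgN : g ∈ normalizer ((R : Subgroup K) : Set K) := mem_normalizer_iff.2 (normal_of_conj_le fun s hs' => by
    have := hT s hs'
    rwa [hβ] at this)
  exact ⟨g, hD.mem_of_two ((stab_eq hD).le hgN) hgk, hβ⟩

/-- The span of commutators. -/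
theorem span_facts (hs : IsSimpleGroup K) (hi : IsoFamilies K) (R : Sylow 2 K)
    (hR : ¬ IsMulCommutative (R : Subgroup K)) :
    (∀ x ∈ (R : Subgroup K), x * x ≠ 1 → ∀ N : Subgroup K, (∀ t ∈ (R : Subgroup K), ⁅x, t⁆ ∈ N) →
      ∀ v ∈ (R : Subgroup K), v * v = 1 → v ∈ N) ∨
    ((∀ (β : MulAut K) (k : ℕ), β ^ 2 ^ k = 1 → (∀ t ∈ (R : Subgroup K), β t ∈ (R : Subgroup K)) →
        (∀ x ∈ (R : Subgroup K), x * x = 1 → β x = x) → ∃ x ∈ (R : Subgroup K), β = MulAut.conj x) ∧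
      ∀ x ∈ (R : Subgroup K), ∀ y ∈ (R : Subgroup K), ¬ Commute x y → ∀ N : Subgroup K,
        (∀ t ∈ (R : Subgroup K), ⁅x, t⁆ ∈ N) → (∀ t ∈ (R : Subgroup K), ⁅y, t⁆ ∈ N) →
          ∀ v ∈ (R : Subgroup K), v * v = 1 → v ∈ N) := by
  haveI : Fact (Nat.Prime 2) := ⟨Nat.prime_two⟩
  have hna : ¬ IsMulCommutative K := fun h => hR ⟨⟨fun a b => Subtype.ext ((isMulCommutative_iff.1 h) _ _)⟩⟩
  rcases hi with ⟨F, iF, iF', ⟨n, hn, hc⟩, ⟨f⟩⟩ | ⟨F, iF, iF', m, hm, hc, ⟨f⟩⟩ | ⟨F, iF, iF', n, hn, hc, ⟨f⟩⟩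
  · exfalso
    refine hR ⟨⟨fun a b => Subtype.ext ?_⟩⟩
    let P := R.mapSurjective (f := f.toMonoidHom) f.surjective
    have hsq : ∀ x ∈ (R : Subgroup K), x * x = 1 := fun x hx => f.injective (by
      rw [map_mul, map_one]
      exact Shape.Data.sq_eq_one_psl hc P (show f x ∈ (P : Subgroup _) from ⟨x, hx, rfl⟩))
    have h1 := hsq _ (mul_mem a.2 b.2)
    rw [mul_eq_one_iff_eq_inv, mul_inv_rev, inv_eq_of_mul_eq_one_right (hsq _ a.2),
      inv_eq_of_mul_eq_one_right (hsq _ b.2)] at h1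
    exact h1
  · refine Or.inr ⟨fun β k hk hT _ => inner_sz hs hna hm hc f R β k hk hT, fun x hx y hy hne N hNx hNy v hv hvv => ?_⟩
    haveI : CharP F 2 := charP_of_card_eq_prime_pow (f := 2 * m + 1) hc
    obtain ⟨e0⟩ := CfsgLib.Lie.Suz.exists_twEquiv (F := F) hm hc
    obtain ⟨P, hP⟩ := CfsgLib.Fusion.FrakL.exists_sylow_U hm hc
    obtain ⟨c, hc'⟩ := MulAction.exists_smul_eq (Cfsg.Sz F m)
      (R.mapSurjective (f := (f.trans e0.symm).toMonoidHom) (f.trans e0.symm).surjective) P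
    let e : K ≃* Cfsg.Sz F m := (f.trans e0.symm).trans (MulAut.conj c)
    have hU : ∀ x, e x ∈ CfsgLib.Lie.Suz.U hc ↔ x ∈ (R : Subgroup K) := fun x => by
      have hm' : CfsgLib.Lie.Suz.U hc = (R : Subgroup K).map e.toMonoidHom := by
        rw [← hP, ← hc', Sylow.coe_subgroup_smul]
        show ((R : Subgroup K).map (f.trans e0.symm).toMonoidHom).map (MulAut.conj c).toMonoidHom = _
        rw [Subgroup.map_map]
        rfl
      rw [hm', Subgroup.mem_map_equiv, e.symm_apply_apply]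
    have hN : ∀ {z : K}, z ∈ (R : Subgroup K) → (∀ t ∈ (R : Subgroup K), ⁅z, t⁆ ∈ N) →
        ∀ t ∈ CfsgLib.Lie.Suz.U hc, ⁅e z, t⁆ ∈ N.map e.toMonoidHom := fun {z} _ h t ht => by
      obtain ⟨t', rfl⟩ := e.surjective t
      exact ⟨⁅z, t'⁆, h t' ((hU t').1 ht), map_commutatorElement e.toMonoidHom z t'⟩
    have h := sz_span hm hc ((hU x).2 hx) ((hU y).2 hy)
      (fun h => hne (e.injective (by rw [map_mul, map_mul, h.eq]))) (N.map e.toMonoidHom) (hN hx hNx) (hN hy hNy)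
      ((hU v).2 hv) (by rw [← map_mul, hvv, map_one])
    rwa [Subgroup.mem_map_equiv, e.symm_apply_apply] at h
  · refine Or.inl fun x hx hxx N hN v hv hvv => ?_
    haveI : CharP F 2 := charP_of_card_eq_prime_pow (f := n * 2) (by rw [hc, ← pow_mul])
    obtain ⟨U, -⟩ := CfsgLib.SU.unital_sylow_psu (n := n) (by omega) hc
      (R.mapSurjective (f := f.toMonoidHom) f.surjective)
    let V := U.congr (f.subgroupMap (R : Subgroup K))
    obtain ⟨t, ht⟩ := exists_commutator V (x := ⟨x, hx⟩) (v := ⟨v, hv⟩)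
      (fun e => hxx (congrArg Subtype.val e)) (Subtype.ext hvv)
    have e : ⁅x, (t : K)⁆ = v := congrArg Subtype.val ht
    exact e ▸ hN t t.2

/-- The facts used of the rank one groups with nonabelian Sylow subgroups. -/
theorem rankOneFacts_of (hs : IsSimpleGroup K) (hi : IsoFamilies K) (R : Sylow 2 K)
    (hR : ¬ IsMulCommutative (R : Subgroup K)) : Phi.RankOneFacts R := by
  obtain ⟨H, hD⟩ := exists_data_at hs hi R
  obtain ⟨τ, hτ⟩ := hasTData_iso hi R
  have hcen : ∀ x ∈ (R : Subgroup K), x * x = 1 → ∀ t ∈ (R : Subgroup K), Commute x t :=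
    fun x hx hxx t ht => (hτ.central x hx hxx t ht).symm
  exact
    { derived := derived_of_tdata hτ R.2 hR
      central := hcen
      core := fun v hv hvo => core_eq_bot hD hcen hv hvo
      odd_aut := fun α ho hfix => eq_one_of_odd hD α ho hfix
      inner := inner_of_data hD hτ
      span := span_facts hs hi R hR }

end CfsgLib.Gold.RankOne

namespace CfsgLib.Gold.Phi

universe u

/-- The facts hold. -/
theorem rankOneFacts : RankOneFactsStmt.{u} :=
  fun _ _ _ hs hi R hR => CfsgLib.Gold.RankOne.rankOneFacts_of hs hi R hR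

end CfsgLib.Gold.Phi
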