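import Cfsg.Agent.Lib.Invol.SECriterion.Closure.Suz
import Cfsg.Agent.Lib.Invol.CyclicInter.Defs
import Cfsg.Agent.Lib.Coprime.Core

/-!
# Automorphisms fixing the point of a regular Sylow `2`-subgroup
-/

set_option autoImplicit false
set_option linter.unusedSectionVars false
set_option linter.style.haveILetI false

namespace CfsgLib.Gold.RankOne

open Subgroup CfsgLib.SECrit CfsgLib.Invol

universe u

variable {G : Type u} [Group G] [Finite G] {H T : Subgroup G}

theorem exists_ne_one (h : Shape.Data H T) : ∃ t ∈ T, t ≠ 1 := by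
  obtain ⟨t, ht, hto⟩ := exists_invol_mem h.se.2.1
  exact ⟨t, h.mem_of_invol ht (invol_mul_self hto), invol_ne_one hto⟩

/-- The point stabiliser is the normalizer of `T`. -/
theorem stab_eq (h : Shape.Data H T) : normalizer (T : Set G) = H := by
  refine le_antisymm (fun g hg => ?_) h.norm
  by_contra hgH
  obtain ⟨t, ht, ht1⟩ := exists_ne_one h
  obtain ⟨w, -, huniq⟩ := h.reg g g hgH hgH
  refine ht1 ((huniq t ⟨ht, ?_⟩).trans (huniq 1 ⟨one_mem _, ?_⟩).symm)
  · rw [← mul_assoc]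
    exact h.le (Subgroup.mem_normalizer_iff''.1 hg t |>.1 ht)
  · rw [one_mul, inv_mul_cancel]; exact one_mem H

theorem aut_mem_iff (h : Shape.Data H T) (α : MulAut G) (hT : ∀ t ∈ T, α t ∈ T) (g : G) :
    g ∈ H ↔ α g ∈ H := by
  obtain ⟨e, he⟩ : ∃ e : ↥T → ↥T, Function.Bijective e ∧ ∀ t, (e t : G) = α t :=
    ⟨fun t => ⟨α t, hT t t.2⟩, Finite.injective_iff_bijective.1
      (fun a b e => Subtype.ext (α.injective (congrArg Subtype.val e))), fun t => rfl⟩
  have hiff : ∀ t, t ∈ T ↔ α t ∈ T := fun t => ⟨hT t, fun ht => by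
    obtain ⟨s, hs⟩ := he.1.2 ⟨α t, ht⟩
    rw [← α.injective ((he.2 s).symm.trans (congrArg Subtype.val hs))]
    exact s.2⟩
  rw [← stab_eq h, mem_normalizer_iff, mem_normalizer_iff]
  constructor
  · intro hg x
    obtain ⟨y, rfl⟩ := α.surjective x
    rw [← hiff, ← map_inv α, ← map_mul, ← map_mul, ← hiff]
    exact hg y
  · intro hg x
    rw [hiff x, hiff (g * x * g⁻¹), map_mul, map_mul, map_inv]
    exact hg (α x)

/-- An automorphism fixing all points is trivial. -/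
theorem eq_one_of_cosets (h : Shape.Data H T) (α : MulAut G) (hc : ∀ g, g⁻¹ * α g ∈ H) : α = 1 := by
  refine MulEquiv.ext fun b => ?_
  have hm : b⁻¹ * α b ∈ H.normalCore := fun a => by
    have e : a * (b⁻¹ * α b) * a⁻¹ = ((b * a⁻¹)⁻¹ * α (b * a⁻¹)) * (a⁻¹⁻¹ * α a⁻¹)⁻¹ := by
      rw [map_mul]; group
    show a * (b⁻¹ * α b) * a⁻¹ ∈ H
    rw [e]
    exact mul_mem (hc _) (inv_mem (hc _))
  rw [h.core, mem_bot, inv_mul_eq_one] at hm
  exact hm.symm

/-- Fixing `T` and one further point is fixing everything. -/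
theorem eq_one_of_fix (h : Shape.Data H T) (α : MulAut G) (hT : ∀ t ∈ T, α t = t) {c : G} (hc : c ∉ H)
    (hcfix : c⁻¹ * α c ∈ H) : α = 1 := by
  have hH := aut_mem_iff h α (fun t ht => (hT t ht).symm ▸ ht)
  refine eq_one_of_cosets h α fun g => ?_
  by_cases hg : g ∈ H
  · exact mul_mem (inv_mem hg) ((hH g).1 hg)
  obtain ⟨x, ⟨hx, hxH⟩, -⟩ := h.reg c g hc hg
  have e : g⁻¹ * α g = (g⁻¹ * (x * c)) * (c⁻¹ * α c) * (α (g⁻¹ * (x * c)))⁻¹ := by
    rw [map_mul, map_mul, map_inv, hT x hx]; group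
  rw [e]
  exact mul_mem (mul_mem hxH hcfix) (inv_mem ((hH _).1 hxH))

/-- An automorphism of odd order centralizing `T` is trivial. -/
theorem eq_one_of_odd (h : Shape.Data H T) (α : MulAut G) (ho : Odd (orderOf α))
    (hT : ∀ t ∈ T, α t = t) : α = 1 := by
  obtain ⟨c, hc⟩ := h.exists_notMem
  have hH := aut_mem_iff h α (fun t ht => (hT t ht).symm ▸ ht)
  have hac : α c ∉ H := fun e => hc ((hH c).2 e)
  obtain ⟨x, ⟨hx, hxH⟩, -⟩ := h.reg c (α c) hc hac
  have hn : ∀ n : ℕ, ((α ^ n) c)⁻¹ * (x ^ n * c) ∈ H := by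
    intro n
    induction n with
    | zero => rw [pow_zero, pow_zero, MulAut.one_apply, one_mul, inv_mul_cancel]; exact one_mem H
    | succ n ih =>
      have h1 := mul_mem ((hH _).1 ih) hxH
      rw [map_mul, map_mul, map_inv, hT _ (pow_mem hx n)] at h1
      rw [pow_succ', MulAut.mul_apply, pow_succ,
        show (α ((α ^ n) c))⁻¹ * (x ^ n * x * c) =
          (α ((α ^ n) c))⁻¹ * (x ^ n * α c) * ((α c)⁻¹ * (x * c)) by group]
      exact h1
  have h1 := hn (orderOf α)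
  rw [pow_orderOf_eq_one, MulAut.one_apply] at h1
  obtain ⟨w, -, huniq⟩ := h.reg c c hc hc
  have hxn : x ^ orderOf α = 1 := (huniq _ ⟨pow_mem hx _, h1⟩).trans
    (huniq 1 ⟨one_mem _, by rw [one_mul, inv_mul_cancel]; exact one_mem H⟩).symm
  obtain ⟨k, hk⟩ := h.two ⟨x, hx⟩
  have hcop : Nat.Coprime (orderOf α) (2 ^ k) := (ho.coprime_two_right).pow_right k
  have hx1 : x = 1 := orderOf_eq_one_iff.1 (Nat.eq_one_of_dvd_coprimes hcop
    (orderOf_dvd_of_pow_eq_one hxn) (orderOf_dvd_of_pow_eq_one (congrArg Subtype.val hk)))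
  refine eq_one_of_fix h α hT hc ?_
  have h2 := inv_mem hxH
  rw [hx1, one_mul, mul_inv_rev, inv_inv] at h2
  exact h2

/-- An element of the point stabiliser of odd order centralizing `T` is trivial. -/
theorem mem_eq_one (h : Shape.Data H T) {d : G} (hd : d ∈ H) (ho : Odd (orderOf d))
    (hc : ∀ t ∈ T, d * t * d⁻¹ = t) : d = 1 := by
  have h1 : MulAut.conj d = 1 := eq_one_of_odd h _ (ho.of_dvd_nat (orderOf_map_dvd MulAut.conj d))
    (fun t ht => hc t ht)
  have hm : d ∈ H.normalCore := fun a => by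
    have h2 : d * a * d⁻¹ = a := by simpa using DFunLike.congr_fun h1 a
    show a * d * a⁻¹ ∈ H
    rwa [show a * d * a⁻¹ = d by rw [← mul_inv_eq_iff_eq_mul.1 h2, mul_inv_cancel_right]]
  rwa [h.core, mem_bot] at hm

/-- The centralizer of an involution of `T` has trivial odd core. -/
theorem core_eq_bot (h : Shape.Data H T) (hcen : ∀ x ∈ T, x * x = 1 → ∀ t ∈ T, Commute x t)
    {v : G} (hv : v ∈ T) (hvo : orderOf v = 2) :
    Cfsg.pPrimeCore 2 (centralizer ({v} : Set G)) = ⊥ := by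
  set C := centralizer ({v} : Set G) with hC
  haveI := CfsgLib.Coprime.pPrimeCore_characteristic (G := C) 2
  have hodd : Odd (Nat.card (Cfsg.pPrimeCore 2 C)) := Nat.not_even_iff_odd.1 fun e =>
    CfsgLib.Coprime.pPrimeCore_not_dvd (G := C) Nat.prime_two (even_iff_two_dvd.1 e)
  refine eq_bot_iff.2 fun o ho => mem_bot.2 (Subtype.ext ?_)
  have hCH : ∀ g : C, (g : G) ∈ H := fun g => mem_of_conj_mem h.se (h.le hv) hvo (by
    rw [show (g : G) * v = v * g from mem_centralizer_singleton_iff.1 g.2, mul_inv_cancel_right]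
    exact h.le hv)
  have hod : Odd (orderOf (o : G)) := by
    rw [Subgroup.orderOf_coe, ← Subgroup.orderOf_mk o ho]
    exact hodd.of_dvd_nat (orderOf_dvd_natCard _)
  refine mem_eq_one h (hCH o) hod fun t ht => ?_
  have htC : t ∈ C := mem_centralizer_singleton_iff.2 (hcen v hv (invol_mul_self hvo) t ht).symm
  set w : C := o * ⟨t, htC⟩ * o⁻¹ * ⟨t, htC⟩⁻¹ with hw
  have hwO : w ∈ Cfsg.pPrimeCore 2 C := by
    rw [hw, show o * (⟨t, htC⟩ : C) * o⁻¹ * ⟨t, htC⟩⁻¹ = o * (⟨t, htC⟩ * o⁻¹ * ⟨t, htC⟩⁻¹) by group]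
    exact mul_mem ho (Subgroup.Normal.conj_mem inferInstance _ (inv_mem ho) _)
  have hwT : (w : G) ∈ T := by
    rw [hw]
    push_cast
    exact mul_mem ((mem_normalizer_iff.1 (h.norm (hCH o)) t).1 ht) (inv_mem ht)
  obtain ⟨k, hk⟩ := h.two ⟨_, hwT⟩
  have hw1 : (w : G) = 1 := orderOf_eq_one_iff.1 (Nat.eq_one_of_dvd_coprimes
    ((hodd.coprime_two_right).pow_right k)
    (by rw [Subgroup.orderOf_coe, ← Subgroup.orderOf_mk w hwO]; exact orderOf_dvd_natCard _)
    (orderOf_dvd_of_pow_eq_one (congrArg Subtype.val hk)))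
  rw [hw] at hw1
  push_cast at hw1
  exact mul_inv_eq_one.1 hw1

end CfsgLib.Gold.RankOne
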